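import Groth.Agent.RegImm.K559.Basic
import Mathlib.RingTheory.Regular.Flat

/-!
# Flat base change of regular immersions
-/

set_option autoImplicit false
universe u
open CategoryTheory CategoryTheory.Limits AlgebraicGeometry

namespace K107.RegFlat

open K559.Basic

variable {X Y X' Y' : Scheme.{u}} {i : Y ⟶ X} {g : X' ⟶ X} {i' : Y' ⟶ X'} {g' : Y' ⟶ Y}

/-- Flat base change of regular immersions. -/
theorem regImm_of_flat (hsq : IsPullback g' i' i g) [Flat g] {c : ℕ}
    (hi : RegImm.IsRegularImmersionOfCodim .regular c i) : RegImm.IsRegularImmersionOfCodim .regular c i' := by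
  have himm : IsImmersion i := hi.1
  have himm' : IsImmersion i' := MorphismProperty.of_isPullback (P := @IsImmersion) hsq himm
  refine ⟨himm', fun z => ?_⟩
  obtain ⟨U, hzU, hcl, rs, hlen, hreg, hker⟩ := hi.2 (g' z)
  have hz : i' z ∈ g ⁻¹ᵁ U.1 := by
    change g (i' z) ∈ U.1
    rw [← Scheme.Hom.comp_apply, ← hsq.w, Scheme.Hom.comp_apply]
    exact hzU
  obtain ⟨V, hV, hzV, hVU⟩ := exists_isAffineOpen_mem_and_subset hz
  have hcl' := isClosedImmersion_restrict hsq hVU hcl
  have hk := ker_app_of_isPullback hsq U.2 hV hVU hcl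
  rw [hker] at hk
  have hk' : RingHom.ker (i'.app V).hom = Ideal.ofList (rs.map (g.appLE U.1 V hVU).hom) := by
    rw [hk, Ideal.map_ofList]
  have hflat : (g.appLE U.1 V hVU).hom.Flat := Scheme.Hom.flat_appLE g U.2 hV hVU
  refine ⟨⟨V, hV⟩, hzV, hcl', rs.map (g.appLE U.1 V hVU).hom, by rw [List.length_map, hlen], ?_, hk'⟩
  have hreg' : RingTheory.Sequence.IsRegular Γ(X, U.1) rs := hreg
  change RingTheory.Sequence.IsRegular Γ(X', V) (rs.map (g.appLE U.1 V hVU).hom)
  algebraize [(g.appLE U.1 V hVU).hom]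
  refine ⟨?_, ?_⟩
  · exact hreg'.toIsWeaklyRegular.of_flat
  · have hne : RingHom.ker (i'.app V).hom ≠ ⊤ := by
      intro h
      have h1 : (1 : Γ(X', V)) ∈ RingHom.ker (i'.app V).hom := by rw [h]; trivial
      rw [RingHom.mem_ker, map_one] at h1
      have : Nonempty (i' ⁻¹ᵁ V : Y'.Opens) := ⟨⟨z, hzV⟩⟩
      exact one_ne_zero h1
    rw [hk'] at hne
    intro h
    apply hne
    rw [smul_eq_mul, Ideal.mul_top] at h
    exact h.symm

/-- The identity is a regular immersion of codimension zero. -/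
theorem regImm_id (X : Scheme.{u}) : RegImm.IsRegularImmersionOfCodim .regular 0 (𝟙 X) := by
  refine ⟨inferInstance, fun z => ?_⟩
  obtain ⟨V, hV, hzV, -⟩ := exists_isAffineOpen_mem_and_subset (U := (⊤ : X.Opens)) (x := z) trivial
  refine ⟨⟨V, hV⟩, hzV, inferInstance, [], rfl, ?_, ?_⟩
  · have : Nonempty V := ⟨⟨z, hzV⟩⟩
    change RingTheory.Sequence.IsRegular Γ(X, V) []
    exact RingTheory.Sequence.IsRegular.nil _ _
  · rw [Ideal.ofList_nil]
    change RingHom.ker ((𝟙 X : X ⟶ X).app V).hom = ⊥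
    rw [Scheme.Hom.id_app]
    exact (RingHom.injective_iff_ker_eq_bot _).1 fun _ _ h => h

end K107.RegFlat
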