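import Groth.Agent.EGA43.K122.DimJac
import Groth.Agent.CycA.SetupField
import Groth.Agent.Cyc.K305.MaxPts
import Groth.Agent.Cyc.K305.TopDim
import Groth.Agent.FlatMor.K260.EquidimDim
import Groth.Agent.Fdesc.GenTop

/-!
# Irreducible components of Cohen-Macaulay schemes of finite type over a field
-/

set_option autoImplicit false
universe u
open CategoryTheory CategoryTheory.Limits AlgebraicGeometry

namespace K107.CompDim

variable {k : Type u} [Field k] {X : Scheme.{u}} (f : X ⟶ Spec (CommRingCat.of k)) [LocallyOfFiniteType f]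

include f in
/-- The dimension function of a scheme locally of finite type over a field. -/
theorem exists_delta : ∃ δ : X → ℕ, (∀ (x y : X) (h : x ⤳ y),
        ringKrullDim (Cyc.LocQuot y x h) + (δ y : WithBot ℕ∞) = (δ x : WithBot ℕ∞)) ∧
      ∀ x : X, topologicalKrullDim ↥(closure ({x} : Set X)) = δ x := by
  obtain ⟨δ, h1, h2⟩ := K122.DimJac.exists_delta (S := Spec (CommRingCat.of k))
    (Groth.Agent.CycA.SetupField.isUniversallyCatenary_stalk_Spec k) (fun S' _ s hs _ => by
      have : {t : Spec (CommRingCat.of k) | t ∈ S' ∧ t ⤳ s} = S' := by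
        ext t
        refine ⟨fun h => h.1, fun h => ⟨h, ?_⟩⟩
        rw [Subsingleton.elim (α := PrimeSpectrum k) t s]
      rw [this]) f
  refine ⟨δ, h1, fun x => ?_⟩
  rw [← h2 Set.univ isOpen_univ x trivial, Set.univ_inter]

omit [Field k] in
theorem dim_of_isClosed {X : Scheme.{u}} {x : X} (hx : IsClosed ({x} : Set X)) :
    topologicalKrullDim ↥(closure ({x} : Set X)) = 0 := by
  rw [hx.closure_eq]
  have : Subsingleton ({x} : Set X) := Set.subsingleton_coe _ |>.2 Set.subsingleton_singleton
  have h1 : Nonempty ({x} : Set X) := ⟨⟨x, rfl⟩⟩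
  refine le_antisymm (topologicalKrullDim_zero_of_discreteTopology ({x} : Set X)) ?_
  exact Order.krullDim_nonneg_iff.2 ⟨⟨irreducibleComponent ⟨x, rfl⟩, isIrreducible_irreducibleComponent,
    isClosed_irreducibleComponent⟩⟩

include f in
/-- The components of a Cohen-Macaulay scheme whose closed points have local rings of dimension `n`. -/
theorem dim_component (n : ℕ) (hCM : ∀ x : X, LocCoh.IsCohenMacaulayLocalRing (X.presheaf.stalk x))
    (heq : ∀ x : X, IsClosed ({x} : Set ↥X) → ringKrullDim (X.presheaf.stalk x) = n)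
    (Z : Set X) (hZ : Z ∈ irreducibleComponents X) : topologicalKrullDim Z = n := by
  have hJ : JacobsonSpace X := LocallyOfFiniteType.jacobsonSpace f
  obtain ⟨δ, h1, h2⟩ := exists_delta f
  obtain ⟨η, hη, rfl⟩ := Groth.Agent.Fdesc.GenTop.exists_genericPoints_of_component hZ
  obtain ⟨z, hz, hzc⟩ := K305.TopDim.exists_closed η
  have hmax : K305.MaxPts.IsMaxPt η := fun ξ' h =>
    (Groth.Agent.Fdesc.GenTop.mem_genericPoints_iff.1 hη) _ h
  have h3 := K305.MaxPts.ringKrullDim_quotient_eq_of_CM (hCM z) _ (K305.MaxPts.mem_minimalPrimes_of_isMaxPt hz hmax)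
  have h4 := h1 η z hz
  have h5 : δ z = 0 := by
    have := h2 z
    rw [dim_of_isClosed hzc] at this
    exact_mod_cast this.symm
  rw [h5] at h4
  rw [h2, ← h4, ← heq z hzc, ← h3]
  simp

omit [LocallyOfFiniteType f] in
/-- The fibres of a scheme over a field are homeomorphic to it. -/
theorem dim_fiber (s : Spec (CommRingCat.of k)) : topologicalKrullDim ↥(f.fiber s) = topologicalKrullDim X := by
  obtain ⟨e⟩ := K260.EquidimDim.fiber_homeo f s
  exact (e.isHomeomorph.topologicalKrullDim_eq _).symm

end K107.CompDim
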