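import Groth.Agent.Divis.CartierStalk
import Groth.Agent.EGA4.K113.GoodCM
import Groth.Agent.CalgB.CM2
import Groth.Prelude.Def_CAlg

/-!
# Local rings of an effective Cartier divisor, and regularity of its equation on Cohen-Macaulay modules
-/

set_option autoImplicit false
universe u
open CategoryTheory CategoryTheory.Limits AlgebraicGeometry

namespace K107.EffStalk

open IsLocalRing

theorem ringKrullDim_lt_top' (R : Type u) [CommRing R] [IsNoetherianRing R] [IsLocalRing R] :
    ringKrullDim R < ⊤ := ringKrullDim_lt_top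

/-- A non-zero-divisor of the maximal ideal is regular on Cohen-Macaulay modules of full support. -/
theorem isSMulRegular {R : Type u} [CommRing R] [IsNoetherianRing R] [IsLocalRing R] {M : Type u}
    [AddCommGroup M] [Module R M] [Module.Finite R M] (hM : LocCoh.IsCohenMacaulayModule R M)
    (hd : Module.supportDim R M = ringKrullDim R) {g : R} (hg : g ∈ nonZeroDivisors R) :
    IsSMulRegular M g := by
  refine Groth.Agent.CalgB.CM2.isSMulRegular_of_supportDim_lt hM ?_
  have h1 : Module.supportDim R (QuotSMulTop g M) ≤ ringKrullDim (R ⧸ Ideal.span {g}) := by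
    rw [ringKrullDim_quotient, Module.supportDim]
    refine Order.krullDim_le_of_strictMono (fun a ↦ ⟨a.1, ?_⟩) fun {_ _} lt ↦ lt
    have h0 : (a : PrimeSpectrum R) ∈ Module.support R M ∩ PrimeSpectrum.zeroLocus {g} := by
      rw [← Module.support_quotSMulTop]
      exact a.2
    rw [PrimeSpectrum.zeroLocus_span]
    exact h0.2
  have h2 : ringKrullDim (R ⧸ Ideal.span {g}) + 1 ≤ ringKrullDim R :=
    ringKrullDim_quotient_succ_le_of_nonZeroDivisor hg
  rw [hd]
  refine lt_of_le_of_lt h1 ?_
  obtain ⟨n, hn⟩ : ∃ n : ℕ, ringKrullDim R = n := by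
    obtain ⟨m, hm⟩ := WithBot.ne_bot_iff_exists.mp (ringKrullDim_ne_bot (R := R))
    have h3 := ringKrullDim_lt_top' R
    rw [← hm] at h3 ⊢
    obtain ⟨k, hk⟩ := ENat.ne_top_iff_exists.mp (show m ≠ ⊤ by
      rintro rfl
      exact absurd h3 (lt_irrefl _))
    exact ⟨k, by rw [← hk]; rfl⟩
  rw [hn] at h2 ⊢
  generalize ringKrullDim (R ⧸ Ideal.span {g}) = b at h2
  induction b with
  | bot => exact WithBot.bot_lt_coe _
  | coe b =>
    have h4 : b + 1 ≤ (n : ℕ∞) := by exact_mod_cast h2
    have h5 : b < (n : ℕ∞) := by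
      have hb : b ≠ ⊤ := by
        rintro rfl
        simp at h4
      exact (ENat.add_one_le_iff hb).1 h4
    exact_mod_cast h5

variable {X D : Scheme.{u}} (i : D ⟶ X) [IsClosedImmersion i] (hI : BlowUp.IsEffCartierIdeal i.ker)

include hI in
theorem exists_ker_eq (d : D) : ∃ g ∈ nonZeroDivisors (X.presheaf.stalk (i d)),
    g ∈ maximalIdeal (X.presheaf.stalk (i d)) ∧ RingHom.ker (i.stalkMap d).hom = Ideal.span {g} := by
  obtain ⟨g, hg, h⟩ := Groth.Agent.Divis.CartierBasic.exists_stalkIdeal_eq_span hI (i d)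
  rw [← Groth.Agent.Divis.CartierStalk.ker_stalkMap i d] at h
  refine ⟨g, hg, ?_, h⟩
  have h1 : g ∈ RingHom.ker (i.stalkMap d).hom := by
    rw [h]; exact Ideal.mem_span_singleton_self g
  rw [mem_maximalIdeal, mem_nonunits_iff]
  intro hu
  have h2 := hu.map (i.stalkMap d).hom
  rw [RingHom.mem_ker.1 h1] at h2
  exact not_isUnit_zero h2

/-- The local ring of `D` as a quotient. -/
noncomputable def quotEquiv (d : D) {g : X.presheaf.stalk (i d)}
    (h : RingHom.ker (i.stalkMap d).hom = Ideal.span {g}) :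
    (X.presheaf.stalk (i d) ⧸ Ideal.span {g}) ≃+* D.presheaf.stalk d :=
  (Ideal.quotEquivOfEq h.symm).trans (RingHom.quotientKerEquivOfSurjective (i.stalkMap_surjective d))

variable [IsLocallyNoetherian X]

include hI in
theorem isCM (d : D) (h : LocCoh.IsCohenMacaulayLocalRing (X.presheaf.stalk (i d))) :
    LocCoh.IsCohenMacaulayLocalRing (D.presheaf.stalk d) := by
  obtain ⟨g, hg, hgm, hk⟩ := exists_ker_eq i hI d
  have h1 := (K113.GoodCM.isCM_quotient_span_iff hgm (fun a b hab => (mul_cancel_left_mem_nonZeroDivisors hg).1 hab)).2 h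
  exact Groth.Agent.Ega4C.FlatLocal.isCM_of_ringEquiv (quotEquiv i d hk) h1

include hI in
theorem ringKrullDim_add_one (d : D) :
    ringKrullDim (D.presheaf.stalk d) + 1 = ringKrullDim (X.presheaf.stalk (i d)) := by
  obtain ⟨g, hg, hgm, hk⟩ := exists_ker_eq i hI d
  rw [← ringKrullDim_eq_of_ringEquiv (quotEquiv i d hk)]
  exact ringKrullDim_quotient_span_singleton_succ_eq_ringKrullDim_of_mem_nonZeroDivisors hg hgm

end K107.EffStalk
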