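import Groth.Agent.Canon.K107.CompDim
import Groth.Agent.Canon.K107.EffStalk
import Groth.Agent.QGor.K968.Compare1
import Groth.Agent.S3637
import Groth.Agent.Dual.H339.TwistFull
import Groth.Agent.Fixpt.H12.LpullTor
import Groth.Agent.Krr.H450.SecRank
import Groth.Agent.S8914
import Groth.Agent.ZClos.K283.S2
import Groth.Agent.LoccohB.AdStruct
import Groth.Agent.CycB.CohStalk
import Groth.Agent.CycB.StalkExact
import Groth.Agent.Sga67.CohBasic
import Groth.Agent.Fdesc.StructMod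
import Groth.Agent.Fdesc.GenTop
import Groth.Agent.Sga67.TensorOps
import Groth.Agent.ASBun.K791.Tens

/-!
# Adjunction for effective Cartier divisors on Cohen-Macaulay schemes

* `main1`: for `X` proper over a field, Cohen-Macaulay with `n`-dimensional local rings at closed points, and `ω` an
  `n`-dualizing sheaf: `ω[n]` is the value at `O` of the right adjoint of `Rf_*`, and the stalks of `ω` are nonzero
  Cohen-Macaulay modules;
* `lpull_ω`: `Li^* (ω[n])` is `i^*ω` in degree `-n`;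
* `main2`: `ω_D ⊗ C_{D/X} ≅ i^* ω_X`.
-/

set_option autoImplicit false
universe u
open CategoryTheory CategoryTheory.Limits AlgebraicGeometry
attribute [local instance] HasDerivedCategory.standard

namespace K107.EffDual

open Groth.Agent Groth.Agent.Ega1.ADualUniv Groth.Agent.Ega1.ADualOpen Groth.Agent.LoccohB.AdStruct

theorem nonempty_HD_inD_shift {X : Scheme.{u}} (M : X.Modules) (n r : ℤ) (h : n + r = 0) :
    Nonempty (DCoh.HD ((DCoh.inD X M)⟦n⟧) r ≅ M) :=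
  ⟨LoccohB.DQCohBasic.homologyShiftIso (DCoh.inD X M) n r 0 h ≪≫
    (DerivedCategory.singleFunctorCompHomologyFunctorIso X.Modules 0).app M⟩

theorem isLE_inD_shift {X : Scheme.{u}} (M : X.Modules) (n : ℕ) :
    ((DCoh.inD X M)⟦(n : ℤ)⟧).IsLE (-(n : ℤ)) := by
  have h : DerivedCategory.TStructure.t.IsLE (DCoh.inD X M) 0 :=
    inferInstanceAs (((DerivedCategory.singleFunctor X.Modules 0).obj M).IsLE 0)
  exact DerivedCategory.TStructure.t.isLE_shift (DCoh.inD X M) 0 (n : ℤ) (-(n : ℤ)) (by omega)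

theorem isGE_inD_shift {X : Scheme.{u}} (M : X.Modules) (n : ℕ) :
    ((DCoh.inD X M)⟦(n : ℤ)⟧).IsGE (-(n : ℤ)) := by
  have h : DerivedCategory.TStructure.t.IsGE (DCoh.inD X M) 0 :=
    inferInstanceAs (((DerivedCategory.singleFunctor X.Modules 0).obj M).IsGE 0)
  exact DerivedCategory.TStructure.t.isGE_shift (DCoh.inD X M) 0 (n : ℤ) (-(n : ℤ)) (by omega)

/-- The right adjoint of `Rf_*`. -/
theorem exists_adj {X S : Scheme.{u}} [IsNoetherian S] [CompactSpace X] [QuasiSeparatedSpace X] (f : X ⟶ S)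
    [DCoh.HasRpush f] (hf : DCoh.RpushPreservesQCoh f) :
    ∃ a : DCoh.DQCoh S ⥤ DCoh.DQCoh X, Nonempty (DCoh.RpushQ f hf ⊣ a) := by
  have := S1766.result X S f hf
  exact ⟨_, ⟨Adjunction.ofIsLeftAdjoint (ObjectProperty.lift DCoh.IsQCohD
    (ObjectProperty.ι DCoh.IsQCohD ⋙ DCoh.Rpush f) (fun K => hf K.obj K.property))⟩⟩

section Stage1

variable (k : Type u) [Field k] (X : Scheme.{u}) [X.Over (Spec (CommRingCat.of k))]
  [IsProper (X ↘ Spec (CommRingCat.of k))] (n : ℕ)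
  (hcomp : ∀ Z : Set X, Z ∈ irreducibleComponents X → topologicalKrullDim ↥Z = (n : WithBot ℕ∞))
  (hCM : ∀ x : X, LocCoh.IsCohenMacaulayLocalRing (X.presheaf.stalk x))
  (ωX : X.Modules) (trX : Coh.HH X ωX n →ₗ[k] k) (hωX : Canon.IsRDualOver k X n ωX trX)

include hcomp hCM hωX in
theorem main1 [DCoh.HasRpush (X ↘ Spec (CommRingCat.of k))] (O : DCoh.D (Spec (CommRingCat.of k)))
    (hOq : DCoh.IsQCohD O)
    (hO : Nonempty (O ≅ DCoh.inD (Spec (CommRingCat.of k)) (Coh.structureModule (Spec (CommRingCat.of k))))) :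
    Univ (X ↘ Spec (CommRingCat.of k)) O ((DCoh.inD X ωX)⟦(n : ℤ)⟧) ∧ Coh.IsCoh ωX ∧
      ∀ x : X, Nontrivial (ωX.presheaf.stalk x) ∧
        LocCoh.IsCohenMacaulayModule (X.presheaf.stalk x) (ωX.presheaf.stalk x) := by
  have hN : IsNoetherian X := isNoetherian_of_finiteType (X ↘ Spec (CommRingCat.of k))
  have hf : DCoh.RpushPreservesQCoh (X ↘ Spec (CommRingCat.of k)) := fun N hN => S0998.result _ N hN
  obtain ⟨a, ⟨adj⟩⟩ := exists_adj (X ↘ Spec (CommRingCat.of k)) hf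
  obtain ⟨h1, h2, h3⟩ := S3637.result k X (X ↘ Spec (CommRingCat.of k)) hCM n hcomp hf a adj ⟨O, hOq⟩ hO
  have hd : ∀ s : Spec (CommRingCat.of k),
      topologicalKrullDim ↥((X ↘ Spec (CommRingCat.of k)).fiber s) ≤ n := fun s => by
    rw [K107.CompDim.dim_fiber]
    exact Groth.Agent.Dual.H341.CMSch.topologicalKrullDim_le_of_components X n hcomp
  obtain ⟨e⟩ := K968.Compare1.iso_HD k n hd (h := hf) adj ⟨O, hOq⟩ hO ⟨trX, hωX⟩
  have hu := univ_of_adj (h := hf) adj ⟨O, hOq⟩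
  refine ⟨?_, Groth.Agent.Sga67.CohBasic.isCoh_of_iso e.symm h2, fun x => ?_⟩
  · have hLE : (a.obj (⟨O, hOq⟩ : DCoh.DQCoh (Spec (CommRingCat.of k)))).obj.IsLE (-(n : ℤ)) := by
      rw [DerivedCategory.isLE_iff]
      exact fun q hq => h1 q (by omega)
    have hGE : (a.obj (⟨O, hOq⟩ : DCoh.DQCoh (Spec (CommRingCat.of k)))).obj.IsGE (-(n : ℤ)) := by
      rw [DerivedCategory.isGE_iff]
      exact fun q hq => h1 q (by omega)
    obtain ⟨e1⟩ := Groth.Agent.Dual.H339.TwistFull.exists_iso_inD _ (-(n : ℤ)) (n : ℤ) hLE hGE (by omega)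
    let e2 := e1 ≪≫ (shiftFunctor _ (n : ℤ)).mapIso ((DerivedCategory.singleFunctor X.Modules 0).mapIso e.symm)
    exact hu.of_iso_left e2 (PerfA.QCohD.isQCohD_of_iso e2 hu.qcoh)
  · let e3 := Groth.Agent.CycB.StalkExact.stalkLinEquiv e x
    refine ⟨?_, ?_⟩
    · have := (h3 x).1
      exact e3.toEquiv.nontrivial
    · exact (Groth.Agent.CalgB.CM2.cm_congr e3).2 (h3 x).2

end Stage1

section Stage2

variable {X D : Scheme.{u}} [IsNoetherian X] (i : D ⟶ X) [IsClosedImmersion i]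
  (hI : BlowUp.IsEffCartierIdeal i.ker) (ω : X.Modules) (hc : Coh.IsCoh ω)
  (hω : ∀ x : X, Nontrivial (ω.presheaf.stalk x) ∧
    LocCoh.IsCohenMacaulayModule (X.presheaf.stalk x) (ω.presheaf.stalk x))

include hI hc hω in
theorem torIndep (d : D) : Fixpt.H12.LpullTor.TorIndepAt i ω d := by
  obtain ⟨g, hg, hgm, hk⟩ := K107.EffStalk.exists_ker_eq i hI d
  have : Module.Finite (X.presheaf.stalk (i d)) (ω.presheaf.stalk (i d)) :=
    CycB.CohStalk.finite_stalk ω hc (i d)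
  have hreg : IsSMulRegular (ω.presheaf.stalk (i d)) g :=
    K107.EffStalk.isSMulRegular (hω (i d)).2 (K283.S2.supportDim_stalk hc.1 (fun x => (hω x).1) (i d)) hg
  refine Or.inr ⟨[g], ?_, i.stalkMap_surjective d, ?_, ?_⟩
  · rw [RingTheory.Sequence.isWeaklyRegular_cons_iff]
    exact ⟨fun a b hab => (mul_cancel_left_mem_nonZeroDivisors hg).1 hab,
      RingTheory.Sequence.IsWeaklyRegular.nil _ _⟩
  · rw [Ideal.ofList_singleton]
    exact hk
  · rw [RingTheory.Sequence.isWeaklyRegular_cons_iff]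
    exact ⟨hreg, RingTheory.Sequence.IsWeaklyRegular.nil _ _⟩

include hI hc hω in
theorem nonempty_lpull_shift [DCoh.HasLpull i] (n : ℤ) : Nonempty ((DCoh.Lpull i).obj ((DCoh.inD X ω)⟦n⟧) ≅
    (DCoh.inD D ((Scheme.Modules.pullback i).obj ω))⟦n⟧) := by
  have := Fixpt.H12.LpullTor.isIso_aug i ω (torIndep i hI ω hc hω)
  let _ := Dcoh.DerPull.lpullCommShift i
  exact ⟨((DCoh.Lpull i).commShiftIso n).app _ ≪≫ (shiftFunctor _ n).mapIso
    (asIso ((Groth.Agent.Sga67.SelfIntT.aug i).app ω))⟩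

end Stage2

section Stage3

variable (k : Type u) [Field k] (X : Scheme.{u}) [X.Over (Spec (CommRingCat.of k))]
  [IsProper (X ↘ Spec (CommRingCat.of k))] (n : ℕ) (hn : 1 ≤ n)
  (hCM : ∀ x : X, LocCoh.IsCohenMacaulayLocalRing (X.presheaf.stalk x))
  (heq : ∀ x : X, IsClosed ({x} : Set ↥X) → ringKrullDim (X.presheaf.stalk x) = n)
  (ωX : X.Modules) (trX : Coh.HH X ωX n →ₗ[k] k) (hωX : Canon.IsRDualOver k X n ωX trX)
  (D : Scheme.{u}) [D.Over (Spec (CommRingCat.of k))] (i : D ⟶ X) [IsClosedImmersion i]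
  (hD : D ↘ Spec (CommRingCat.of k) = i ≫ (X ↘ Spec (CommRingCat.of k)))
  (hI : BlowUp.IsEffCartierIdeal i.ker)

include hI heq hCM in
theorem dim_stalk [IsLocallyNoetherian X] (d : D) : LocCoh.IsCohenMacaulayLocalRing (D.presheaf.stalk d) ∧
    (IsClosed ({d} : Set ↥D) → ringKrullDim (D.presheaf.stalk d) = (n - 1 : ℕ)) := by
  refine ⟨K107.EffStalk.isCM i hI d (hCM _), fun hd => ?_⟩
  have h1 := K107.EffStalk.ringKrullDim_add_one i hI d
  have h2 : IsClosed ({i d} : Set X) := by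
    rw [← Set.image_singleton]
    exact i.isClosedEmbedding.isClosedMap _ hd
  rw [heq _ h2] at h1
  have h3 : ringKrullDim (D.presheaf.stalk d) ≠ ⊥ := fun h => by
    have := ringKrullDim_nonneg_of_nontrivial (R := D.presheaf.stalk d)
    rw [h] at this
    exact absurd this (by simp)
  generalize ringKrullDim (D.presheaf.stalk d) = b at h1 h3
  induction b with
  | bot => exact absurd rfl h3
  | coe b =>
    have h4 : b + 1 = (n : ℕ∞) := by exact_mod_cast h1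
    have hb : b ≠ ⊤ := by
      rintro rfl
      simp at h4
    obtain ⟨m, rfl⟩ := ENat.ne_top_iff_exists.mp hb
    have h5 : m + 1 = n := by exact_mod_cast h4
    subst h5
    simp

include hn hCM heq hωX hD hI in
theorem main2 (ωD : D.Modules) (trD : Coh.HH D ωD (n - 1) →ₗ[k] k)
    (hωD : Canon.IsRDualOver k D (n - 1) ωD trD) :
    Nonempty (CohB1.tensorMod ωD (Omega.conormal i) ≅ (Scheme.Modules.pullback i).obj ωX) := by
  have hN : IsNoetherian X := isNoetherian_of_finiteType (X ↘ Spec (CommRingCat.of k))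
  have hpD : IsProper (D ↘ Spec (CommRingCat.of k)) := by rw [hD]; infer_instance
  have hND : IsNoetherian D := isNoetherian_of_finiteType (D ↘ Spec (CommRingCat.of k))
  have r1 : DCoh.HasRpush (X ↘ Spec (CommRingCat.of k)) := Dcoh.DerSch.hasRpush _
  have r2 : DCoh.HasRpush (D ↘ Spec (CommRingCat.of k)) := Dcoh.DerSch.hasRpush _
  have r3 : DCoh.HasRpush i := Dcoh.DerSch.hasRpush _
  have r4 : DCoh.HasRpush (i ≫ (X ↘ Spec (CommRingCat.of k))) := Dcoh.DerSch.hasRpush _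
  have r5 : DCoh.HasLpull i := Dcoh.DerPull.hasLpull _
  have hS := dim_stalk X n hCM heq D i hI
  have hcX := K107.CompDim.dim_component (X ↘ Spec (CommRingCat.of k)) n hCM heq
  have hcD := K107.CompDim.dim_component (D ↘ Spec (CommRingCat.of k)) (n - 1) (fun d => (hS d).1)
    (fun d hd => (hS d).2 hd)
  let O := DCoh.inD (Spec (CommRingCat.of k)) (Coh.structureModule (Spec (CommRingCat.of k)))
  have hOq : DCoh.IsQCohD O := PerfA.QCohD.isQCohD_inD _ (Fdesc.StructMod.isQCoh_structureModule _)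
  obtain ⟨uX, hc, sX⟩ := main1 k X n hcX hCM ωX trX hωX O hOq ⟨Iso.refl _⟩
  obtain ⟨uD, -, -⟩ := main1 k D (n - 1) hcD (fun d => (hS d).1) ωD trD hωD O hOq ⟨Iso.refl _⟩
  obtain ⟨L', hL'⟩ := exists_univ i _ uX.qcoh
  have uD' : Univ (i ≫ (X ↘ Spec (CommRingCat.of k))) O ((DCoh.inD D ωD)⟦((n - 1 : ℕ) : ℤ)⟧) :=
    Univ.of_eq hD uD
  obtain ⟨eL⟩ := (Univ.comp' i (X ↘ Spec (CommRingCat.of k)) uX hL').unique uD'
  have hu := hL'.of_iso_left eL uD.qcoh
  obtain ⟨hreg, hrk⟩ := Krr.H450.SecRank.isRegular_and_rank_of_isEff i hI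
  obtain ⟨e1⟩ := nonempty_lpull_shift i hI ωX hc sX (n : ℤ)
  have h1 : ((DCoh.Lpull i).obj ((DCoh.inD X ωX)⟦(n : ℤ)⟧)).IsLE (-(n : ℤ)) := by
    have := isLE_inD_shift ((Scheme.Modules.pullback i).obj ωX) n
    exact ⟨(DerivedCategory.TStructure.t.isLE_of_iso e1.symm _).le⟩
  have h2 : ((DCoh.Lpull i).obj ((DCoh.inD X ωX)⟦(n : ℤ)⟧)).IsGE (-(n : ℤ)) := by
    have := isGE_inD_shift ((Scheme.Modules.pullback i).obj ωX) n
    exact ⟨(DerivedCategory.TStructure.t.isGE_of_iso e1.symm _).ge⟩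
  obtain ⟨w, ⟨e2⟩, ⟨e3⟩⟩ := Dual.H339.TwistFull.main i hreg hrk (Sga67.TensorOps.isExtPow_one _) uX.qcoh
    (-(n : ℤ)) (isGE_inD_shift ωX n) hu (-(n : ℤ)) h1 h2 ((n - 1 : ℕ) : ℤ) (by omega)
  obtain ⟨e4⟩ := nonempty_HD_inD_shift w ((n - 1 : ℕ) : ℤ) (-((n - 1 : ℕ) : ℤ)) (by omega)
  obtain ⟨e5⟩ := nonempty_HD_inD_shift ωD ((n - 1 : ℕ) : ℤ) (-((n - 1 : ℕ) : ℤ)) (by omega)
  obtain ⟨e6⟩ := nonempty_HD_inD_shift ((Scheme.Modules.pullback i).obj ωX) (n : ℤ) (-(n : ℤ)) (by omega)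
  let e7 : ωD ≅ w := e5.symm ≪≫ (DerivedCategory.homologyFunctor D.Modules _).mapIso e2 ≪≫ e4
  let e8 := (DerivedCategory.homologyFunctor D.Modules (-(n : ℤ))).mapIso e1 ≪≫ e6
  exact ⟨(DCoh.tensorRightMod _).mapIso e7 ≪≫ e3 ≪≫ e8⟩

include k heq hI in
omit [D.Over (Spec (CommRingCat.of k))] in
theorem isEmpty_of_zero (h0 : n = 0) : IsEmpty D := by
  by_contra hne
  rw [not_isEmpty_iff] at hne
  obtain ⟨d₀⟩ := hne
  have hJ : JacobsonSpace D := LocallyOfFiniteType.jacobsonSpace (i ≫ (X ↘ Spec (CommRingCat.of k)))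
  have hN : IsLocallyNoetherian X := LocallyOfFiniteType.isLocallyNoetherian (X ↘ Spec (CommRingCat.of k))
  obtain ⟨d, -, hd⟩ := K305.TopDim.exists_closed d₀
  have h1 := K107.EffStalk.ringKrullDim_add_one i hI d
  have h2 : IsClosed ({i d} : Set X) := by
    rw [← Set.image_singleton]
    exact i.isClosedEmbedding.isClosedMap _ hd
  rw [heq _ h2, h0] at h1
  have h3 : ringKrullDim (D.presheaf.stalk d) ≠ ⊥ := fun h => by
    have := ringKrullDim_nonneg_of_nontrivial (R := D.presheaf.stalk d)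
    rw [h] at this
    exact absurd this (by simp)
  generalize ringKrullDim (D.presheaf.stalk d) = b at h1 h3
  induction b with
  | bot => exact absurd rfl h3
  | coe b =>
    have h4 : b + 1 = (0 : ℕ∞) := by exact_mod_cast h1
    simp at h4

/-- `ω_D ≅ (O(D) ⊗ ω_X)|_D`. -/
theorem iso_of_main2 {X D : Scheme.{u}} (i : D ⟶ X) {OD ωX : X.Modules} {ωD : D.Modules}
    (hOD : ClSub.IsInverseOf OD (ClSub.idealMod i.ker))
    (h : Nonempty (CohB1.tensorMod ωD (Omega.conormal i) ≅ (Scheme.Modules.pullback i).obj ωX)) :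
    Nonempty (ωD ≅ (Scheme.Modules.pullback i).obj (CohB1.tensorMod OD ωX)) := by
  obtain ⟨e⟩ := h
  obtain ⟨e1⟩ := hOD
  open ASBun.K791.Tens in
  let e2 : CohB1.tensorMod ((Scheme.Modules.pullback i).obj OD) (Omega.conormal i) ≅ Coh.structureModule D :=
    (pullTens i OD (ClSub.idealMod i.ker)).symm ≪≫ (Scheme.Modules.pullback i).mapIso e1 ≪≫ pullUnit i
  open ASBun.K791.Tens in
  let e3 : (Scheme.Modules.pullback i).obj (CohB1.tensorMod OD ωX) ≅ ωD :=
    pullTens i OD ωX ≪≫ tensMap (Iso.refl _) e.symm ≪≫ (tensAssoc _ _ _).symm ≪≫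
      tensMap (tensComm _ _) (Iso.refl _) ≪≫ tensAssoc _ _ _ ≪≫ tensMap (Iso.refl _) e2 ≪≫ tensRUnit _
  exact ⟨e3.symm⟩

end Stage3

end K107.EffDual
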