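import Groth.Agent.Canon.K107.CompDim
import Groth.Agent.QGor.K968.Compare1
import Groth.Agent.Dual.H341.HypField
import Groth.Agent.Ega1.DualSchBdd
import Groth.Agent.Fdesc.StructMod
import Groth.Agent.LoccohB.AdStruct

/-!
# Existence of coherent dualizing sheaves for proper schemes over a field
-/

set_option autoImplicit false
universe u
open CategoryTheory CategoryTheory.Limits AlgebraicGeometry
attribute [local instance] HasDerivedCategory.standard

namespace K107.ExistsDual

open Groth.Agent Groth.Agent.Ega1.ADualUniv Groth.Agent.Ega1.ADualOpen Groth.Agent.LoccohB.AdStruct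

/-- A scheme proper over a field, of dimension at most `r`, has a coherent `r`-dualizing sheaf. -/
theorem exists_isRDualOver (k : Type u) [Field k] (X : Scheme.{u}) [X.Over (Spec (CommRingCat.of k))]
    [IsProper (X ↘ Spec (CommRingCat.of k))] (r : ℕ) (hdim : topologicalKrullDim ↥X ≤ (r : WithBot ℕ∞)) :
    ∃ (ω : X.Modules) (tr : Coh.HH X ω r →ₗ[k] k), Coh.IsCoh ω ∧ Canon.IsRDualOver k X r ω tr := by
  have hN : IsNoetherian X := isNoetherian_of_finiteType (X ↘ Spec (CommRingCat.of k))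
  have r1 : DCoh.HasRpush (X ↘ Spec (CommRingCat.of k)) := Dcoh.DerSch.hasRpush _
  have hf : ∀ N : DCoh.D X, DCoh.IsQCohD N → DCoh.IsQCohD ((DCoh.Rpush (X ↘ Spec (CommRingCat.of k))).obj N) :=
    fun N hN => S0998.result _ N hN
  have := S1766.result X (Spec (CommRingCat.of k)) (X ↘ Spec (CommRingCat.of k)) hf
  let adj := Adjunction.ofIsLeftAdjoint (ObjectProperty.lift DCoh.IsQCohD
    (ObjectProperty.ι DCoh.IsQCohD ⋙ DCoh.Rpush (X ↘ Spec (CommRingCat.of k))) (fun K => hf K.obj K.property))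
  let O := DCoh.inD (Spec (CommRingCat.of k)) (Coh.structureModule (Spec (CommRingCat.of k)))
  have hOq : DCoh.IsQCohD O := PerfA.QCohD.isQCohD_inD _ (Fdesc.StructMod.isQCoh_structureModule _)
  have hd : ∀ s : Spec (CommRingCat.of k),
      topologicalKrullDim ↥((X ↘ Spec (CommRingCat.of k)).fiber s) ≤ r := fun s => by
    rw [K107.CompDim.dim_fiber]
    exact hdim
  obtain ⟨tr, htr⟩ := K968.Compare1.isDualizingSheaf_HD k r hd (h := hf) adj ⟨O, hOq⟩ ⟨Iso.refl _⟩
  have hK := Dual.H341.HypField.isDualizingSch k X (X ↘ Spec (CommRingCat.of k)) hf _ adj ⟨O, hOq⟩ ⟨Iso.refl _⟩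
  exact ⟨_, tr, Ega1.DualSchBdd.isCohD_of_isDualizingSch hK _, htr⟩

end K107.ExistsDual
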