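import Groth.Agent.LoccohB.TopRepBound
import Groth.Agent.LoccohB.RpushTri
import Groth.Agent.PerfC.RpushAffine
import Groth.Agent.PerfB.FlatPull
import Groth.Agent.PerfC.PullRestrict
import Groth.Agent.Krr.H473.LpullFlatMod
import Groth.Agent.Dual3.K478.TorAdj
import Groth.Agent.AbVar.K516.HyperTens
import Groth.Agent.Dcoh.MonSymm293
import Groth.Agent.Dcoh.ModTens
import Groth.Agent.Dcoh.DualX
import Groth.Agent.Cohder.RelPCMon
import Groth.Agent.Dual.H339.TwistFull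
import Groth.Agent.PerfA.PerfLocal
import Groth.Agent.Dcoh.Spread
import Groth.Agent.S1766
import Groth.Agent.S1767
import Groth.Agent.S0998
import Groth.Agent.S3605
import Groth.Agent.S3658
import Groth.Agent.S3659

/-!
# The module `π^! M` of a finite morphism

`π : X ⟶ Z` finite between Noetherian schemes.

* `exists_repr`: `H^0(a(M))` represents `F ↦ Hom(π_* F, M)` on quasi-coherent modules (`a` right adjoint of `Rπ_*`).
* `nonempty_iso_tensor`: `π^! M ≅ π^! O ⊗ π^* M` when `π` is flat or `M` is finite locally free.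
-/

set_option autoImplicit false
universe u
open CategoryTheory CategoryTheory.Limits AlgebraicGeometry MonoidalCategory
attribute [local instance] HasDerivedCategory.standard
open scoped Groth.Agent.Dcoh.MonCat Groth.Agent.Dcoh.ModD

namespace K107.FinShriek

open Groth.Agent

section Yoneda

variable {C : Type*} [Category C] {D : Type*} [Category D]

/-- Uniqueness of a representing pair. -/
theorem nonempty_iso_of_repr (T : C ⥤ D) (P : C → Prop) (M : D)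
    {ω₁ ω₂ : C} (h₁ : P ω₁) (h₂ : P ω₂) (τ₁ : T.obj ω₁ ⟶ M) (τ₂ : T.obj ω₂ ⟶ M)
    (u₁ : ∀ F, P F → Function.Bijective (fun φ : F ⟶ ω₁ => T.map φ ≫ τ₁))
    (u₂ : ∀ F, P F → Function.Bijective (fun φ : F ⟶ ω₂ => T.map φ ≫ τ₂)) : Nonempty (ω₁ ≅ ω₂) := by
  obtain ⟨f, hf⟩ := (u₂ ω₁ h₁).2 τ₁
  obtain ⟨g, hg⟩ := (u₁ ω₂ h₂).2 τ₂
  dsimp only at hf hg
  refine ⟨⟨f, g, (u₁ ω₁ h₁).1 ?_, (u₂ ω₂ h₂).1 ?_⟩⟩
  · dsimp only
    rw [T.map_comp, Category.assoc, hg, hf, T.map_id, Category.id_comp]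
  · dsimp only
    rw [T.map_comp, Category.assoc, hf, hg, T.map_id, Category.id_comp]

end Yoneda

section Repr

variable {X Z : Scheme.{u}} (π : X ⟶ Z) [DCoh.HasRpush π]

/-- `H^0(Rπ_*(F[0])) = π_* F`. -/
noncomputable def nat0 : DerivedCategory.singleFunctor X.Modules 0 ⋙ DCoh.Rpush π ⋙
    DerivedCategory.homologyFunctor Z.Modules (0 : ℤ) ≅ Coh.push π :=
  PerfC.RpushSingle.natIso π 0 ≪≫ (Scheme.Modules.pushforward π).rightDerivedZeroIsoSelf

variable [IsNoetherian X] [IsNoetherian Z] [IsFinite π]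
  (hf : DCoh.RpushPreservesQCoh π) (a : DCoh.DQCoh Z ⥤ DCoh.DQCoh X) (adj : DCoh.RpushQ π hf ⊣ a)

theorem isLE_single (F : X.Modules) (hF : Coh.IsQCoh F) (j : ℤ) :
    ((DCoh.Rpush π).obj ((DerivedCategory.singleFunctor X.Modules j).obj F)).IsLE (j + (0 : ℕ)) :=
  LoccohB.TopRepBound.isLE_rpush_single π F 0 (fun p hp => PerfC.RpushAffine.isZero_Rpush π F hF p hp) j

include adj in
theorem isGE_a (W : DCoh.DQCoh Z) (hW : W.obj.IsGE 0) : (a.obj W).obj.IsGE 0 := by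
  obtain ⟨N, hN⟩ := S1767.result X Z π hf a adj
  have hK : (a.obj W).obj.IsGE (-(N : ℤ)) := by
    rw [DerivedCategory.isGE_iff]
    intro i hi
    exact hN W (-1) (fun j hj => DerivedCategory.isZero_of_isGE W.obj 0 j (by omega)) i (by omega)
  exact LoccohB.TopRepBound.isGE_a adj 0 (fun F hF j => isLE_single π F hF.1 j) W 0 0 (-(N : ℤ))
    (by simp) hW hK

include adj in
/-- `H^0(a(M))` represents `F ↦ Hom(π_* F, M)`. -/
theorem exists_repr (M : Z.Modules) (W : DCoh.DQCoh Z) (e : W.obj ≅ DCoh.inD Z M) :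
    ∃ τ : (Coh.push π).obj (DCoh.HD (a.obj W).obj 0) ⟶ M, ∀ F : X.Modules, Coh.IsQCoh F →
      Function.Bijective (fun φ : F ⟶ DCoh.HD (a.obj W).obj 0 => (Coh.push π).map φ ≫ τ) := by
  have hW : W.obj.IsGE 0 := by
    rw [DerivedCategory.isGE_iff]
    intro i hi
    exact (DerivedCategory.isZero_of_isGE _ 0 i hi).of_iso ((DerivedCategory.homologyFunctor _ i).mapIso e)
  have hGE := isGE_a π hf a adj W hW
  have hw : Coh.IsQCoh (DCoh.HD (a.obj W).obj 0) := (a.obj W).property 0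
  have hM' := LoccohB.TopRepBound.isQCohD_single hw 0
  let ν : (DerivedCategory.homologyFunctor Z.Modules 0).obj W.obj ≅ M :=
    (DerivedCategory.homologyFunctor _ 0).mapIso e ≪≫
      (DerivedCategory.singleFunctorCompHomologyFunctorIso _ 0).app M
  refine ⟨(nat0 π).inv.app _ ≫ LoccohB.AdjD.univElt adj 0 0 W hM' ≫ ν.hom, fun F hF => ?_⟩
  have h := LoccohB.AdjD.lowest_cohomology_represents adj 0 0 W hM' F
    (LoccohB.TopRepBound.isQCohD_single hF 0) (by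
      have := isLE_single π F hF 0
      simpa using this)
  have hcomp : (fun φ : F ⟶ DCoh.HD (a.obj W).obj 0 => (Coh.push π).map φ ≫
      (nat0 π).inv.app _ ≫ LoccohB.AdjD.univElt adj 0 0 W hM' ≫ ν.hom) =
      (fun g => (nat0 π).inv.app F ≫ g ≫ ν.hom) ∘ (fun φ : F ⟶ DCoh.HD (a.obj W).obj 0 =>
        (DerivedCategory.homologyFunctor Z.Modules 0).map ((DCoh.Rpush π).map
          ((DerivedCategory.singleFunctor X.Modules 0).map φ)) ≫ LoccohB.AdjD.univElt adj 0 0 W hM') := by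
    funext φ
    have h1 := (nat0 π).inv.naturality φ
    dsimp only [Function.comp]
    rw [← Category.assoc, h1]
    simp only [Category.assoc]
    rfl
  rw [hcomp]
  refine Function.Bijective.comp ⟨fun x y hxy => ?_, fun y => ?_⟩ h
  · dsimp only at hxy
    rwa [cancel_epi, cancel_mono] at hxy
  · refine ⟨(nat0 π).hom.app F ≫ y ≫ ν.inv, ?_⟩
    simp

end Repr

section Main

variable {X Z : Scheme.{u}} [IsNoetherian X] [IsNoetherian Z] (π : X ⟶ Z) [IsFinite π] [DCoh.HasRpush π]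
  (hf : DCoh.RpushPreservesQCoh π) (a : DCoh.DQCoh Z ⥤ DCoh.DQCoh X) (adj : DCoh.RpushQ π hf ⊣ a)
  (O W : DCoh.DQCoh Z) (hO : Nonempty (O.obj ≅ DCoh.inD Z (Coh.structureModule Z)))
  (M : Z.Modules) (hW : Nonempty (W.obj ≅ DCoh.inD Z M))

include adj hO hW in
/-- `π` flat. -/
theorem nonempty_HD_of_flat [Flat π] :
    Nonempty (DCoh.HD (a.obj W).obj 0 ≅
      CohB1.tensorMod (DCoh.HD (a.obj O).obj 0) ((Scheme.Modules.pullback π).obj M)) := by
  have hlp : DCoh.HasLpull π := Dcoh.DerPull.hasLpull π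
  obtain ⟨eO⟩ := hO
  obtain ⟨eW⟩ := hW
  have hOGE : O.obj.IsGE 0 := by
    rw [DerivedCategory.isGE_iff]
    intro i hi
    exact (DerivedCategory.isZero_of_isGE _ 0 i hi).of_iso ((DerivedCategory.homologyFunctor _ i).mapIso eO)
  have hGE := isGE_a π hf a adj O hOGE
  have hLE : (a.obj O).obj.IsLE 0 := by
    rw [DerivedCategory.isLE_iff]
    intro i hi
    exact K478.TorAdj.isZero_HD_of_Rpush π (a.obj O).obj (a.obj O).property i
      (S3605.result X Z π hf a adj O ⟨eO⟩ i hi)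
  obtain ⟨e0⟩ := LoccohB.DCalc.exists_iso_single (a.obj O).obj 0
  have hE : Nonempty (DCoh.toD X (Cohder.RelPCMon.sgl (DCoh.HD (a.obj O).obj 0)) ≅ (a.obj O).obj) :=
    ⟨((DerivedCategory.singleFunctorIsoCompQ X.Modules 0).app _).symm ≪≫ e0.symm⟩
  have h1 := Dcoh.ModTens.hasLTensorCx (Cohder.RelPCMon.sgl (DCoh.HD (a.obj O).obj 0))
  have h2 := Dcoh.LTMod.hasLTensorMod (DCoh.HD (a.obj O).obj 0)
  obtain ⟨t⟩ := S3658.result X Z π hf a adj O ⟨eO⟩ _ hE
  let e2 : (DCoh.Lpull π).obj W.obj ≅ DCoh.inD X ((Scheme.Modules.pullback π).obj M) :=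
    (DCoh.Lpull π).mapIso eW ≪≫ (PerfB.FlatPull.lpullIso π).app _ ≪≫
      ((Scheme.Modules.pullback π).mapDerivedCategorySingleFunctor 0).app M
  obtain ⟨e3⟩ := Cohder.RelPCMon.nonempty_mod (DCoh.HD (a.obj O).obj 0)
    (DCoh.inD X ((Scheme.Modules.pullback π).obj M))
  obtain ⟨e4⟩ := K516.HyperTens.nonempty_HD_zero ((Scheme.Modules.pullback π).obj M) (DCoh.HD (a.obj O).obj 0)
  exact ⟨(DerivedCategory.homologyFunctor _ 0).mapIso (t.app W ≪≫ (DCoh.LTensorCx _).mapIso e2 ≪≫ e3.symm) ≪≫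
    e4 ≪≫ Ega2.Tens.swap _ _⟩

include adj hO hW in
/-- `M` finite locally free. -/
theorem nonempty_HD_of_isFinLocFree (hM : FlatMod.IsFinLocFree M) :
    Nonempty (DCoh.HD (a.obj W).obj 0 ≅
      CohB1.tensorMod (DCoh.HD (a.obj O).obj 0) ((Scheme.Modules.pullback π).obj M)) := by
  have hlp : DCoh.HasLpull π := Dcoh.DerPull.hasLpull π
  obtain ⟨eO⟩ := hO
  obtain ⟨eW⟩ := hW
  let K' := Cohder.RelPCMon.sgl M
  have hK' : Nonempty (DCoh.toD Z K' ≅ W.obj) :=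
    ⟨((DerivedCategory.singleFunctorIsoCompQ Z.Modules 0).app M).symm ≪≫ eW.symm⟩
  have h1 := Dcoh.ModTens.hasLTensorCx K'
  have hperf : DCoh.IsPerfect W.obj := Dcoh.LocalD.isPerfect_of_iso eW.symm
    (PerfA.PerfLocal.isPerfect_inD_of_isFinLocFree hM)
  obtain ⟨hK'0⟩ := hK'
  let e1 : (DCoh.LTensorCx K').obj O.obj ≅ W.obj := (Dcoh.ModTens.LTensorCxIso K').app O.obj ≪≫
    whiskerRightIso (eO ≪≫ Dcoh.DualX.unitIso Z) _ ≪≫ λ_ _ ≪≫ hK'0
  have hKL : DCoh.IsQCohD ((DCoh.LTensorCx K').obj O.obj) := fun i =>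
    PerfA.QCohSerre.isQCoh_of_iso ((DerivedCategory.homologyFunctor _ i).mapIso e1.symm) (W.property i)
  let E : CochainComplex X.Modules ℤ := DerivedCategory.Q.objPreimage (a.obj O).obj
  let eE : DCoh.toD X E ≅ (a.obj O).obj := DerivedCategory.Q.objObjPreimageIso _
  have h2 := Dcoh.ModTens.hasLTensorCx E
  obtain ⟨t⟩ := S3659.result X Z π hf a adj W O hperf K' ⟨hK'0⟩ hKL E ⟨eE⟩
  let e5 : (⟨(DCoh.LTensorCx K').obj O.obj, hKL⟩ : DCoh.DQCoh Z) ≅ W := ObjectProperty.isoMk _ e1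
  let G := (Scheme.Modules.pullback π).obj M
  have hG : FlatMod.IsFinLocFree G := PerfC.PullRestrict.isFinLocFree_pullback π hM
  obtain ⟨e6⟩ := Krr.H473.LpullFlatMod.nonempty_lpull_inD π M hM
  have h3 := Dcoh.LTMod.hasLTensorMod G
  have h4 := Dcoh.ModTens.hasLTensorCx (Cohder.RelPCMon.sgl G)
  obtain ⟨e7⟩ := Cohder.RelPCMon.nonempty_mod G (DCoh.toD X E)
  obtain ⟨s⟩ := Dcoh.MonSymm293.weakSymm (X := X) (DCoh.inD X G)
  let e8 : (DCoh.LTensorCx E).obj (DCoh.inD X G) ≅ (DCoh.LTensorMod G).obj (DCoh.toD X E) :=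
    (Dcoh.ModTens.LTensorCxIso E).app _ ≪≫ s.app (DCoh.toD X E) ≪≫
      whiskerLeftIso _ ((DerivedCategory.singleFunctorIsoCompQ X.Modules 0).app G) ≪≫
      ((Dcoh.ModTens.LTensorCxIso (Cohder.RelPCMon.sgl G)).app _).symm ≪≫ e7.symm
  obtain ⟨e9⟩ := K516.HyperTens.nonempty_HD G (Dcoh.Spread.isFlat_of_isFinLocFree hG) (DCoh.toD X E) 0
  exact ⟨(DerivedCategory.homologyFunctor _ 0).mapIso ((ObjectProperty.ι _).mapIso (a.mapIso e5.symm) ≪≫ t ≪≫
      (DCoh.LTensorCx E).mapIso ((DCoh.Lpull π).mapIso eW ≪≫ e6) ≪≫ e8) ≪≫ e9 ≪≫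
    (DCoh.tensorRightMod G).mapIso ((DerivedCategory.homologyFunctor _ 0).mapIso eE)⟩

end Main

/-- **`π^! M ≅ π^! O ⊗ π^* M`** for `π` finite between Noetherian schemes, `π` flat or `M` finite locally free. -/
theorem nonempty_iso_tensor {X Z : Scheme.{u}} [IsNoetherian X] [IsNoetherian Z] (π : X ⟶ Z) [IsFinite π]
    (M : Z.Modules) (hM : Coh.IsQCoh M)
    (ωM : X.Modules) (hωM : Coh.IsQCoh ωM) (τ : (Coh.push π).obj ωM ⟶ M)
    (huniv : ∀ F : X.Modules, Coh.IsQCoh F → Function.Bijective (fun φ : F ⟶ ωM => (Coh.push π).map φ ≫ τ))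
    (ωO : X.Modules) (hωO : Coh.IsQCoh ωO) (τ₀ : (Coh.push π).obj ωO ⟶ Coh.structureModule Z)
    (huniv₀ : ∀ F : X.Modules, Coh.IsQCoh F → Function.Bijective (fun φ : F ⟶ ωO => (Coh.push π).map φ ≫ τ₀))
    (hcase : Flat π ∨ FlatMod.IsFinLocFree M) :
    Nonempty (ωM ≅ CohB1.tensorMod ωO ((Scheme.Modules.pullback π).obj M)) := by
  have hRp := LoccohB.RpushTri.hasRpush π
  let hf : DCoh.RpushPreservesQCoh π := fun K hK => S0998.result π K hK
  have hla := S1766.result X Z π hf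
  let O : DCoh.DQCoh Z := ⟨DCoh.inD Z (Coh.structureModule Z), PerfA.QCohD.isQCohD_inD _ (PerfA.QCohSerre.isQCoh_unit _)⟩
  let W : DCoh.DQCoh Z := ⟨DCoh.inD Z M, PerfA.QCohD.isQCohD_inD _ hM⟩
  let adj := Adjunction.ofIsLeftAdjoint (DCoh.RpushQ π hf)
  obtain ⟨τ1, h1⟩ := exists_repr π hf _ adj M W (Iso.refl _)
  obtain ⟨τ2, h2⟩ := exists_repr π hf _ adj (Coh.structureModule Z) O (Iso.refl _)
  obtain ⟨e1⟩ := nonempty_iso_of_repr (Coh.push π) Coh.IsQCoh M hωM (((DCoh.RpushQ π hf).rightAdjoint.obj W).property 0)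
    τ τ1 huniv h1
  obtain ⟨e2⟩ := nonempty_iso_of_repr (Coh.push π) Coh.IsQCoh (Coh.structureModule Z)
    (((DCoh.RpushQ π hf).rightAdjoint.obj O).property 0) hωO τ2 τ₀ h2 huniv₀
  have key : Nonempty (DCoh.HD ((DCoh.RpushQ π hf).rightAdjoint.obj W).obj 0 ≅
      CohB1.tensorMod (DCoh.HD ((DCoh.RpushQ π hf).rightAdjoint.obj O).obj 0)
        ((Scheme.Modules.pullback π).obj M)) := by
    rcases hcase with h | h
    · exact nonempty_HD_of_flat π hf _ adj O W ⟨Iso.refl _⟩ M ⟨Iso.refl _⟩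
    · exact nonempty_HD_of_isFinLocFree π hf _ adj O W ⟨Iso.refl _⟩ M ⟨Iso.refl _⟩ h
  obtain ⟨e3⟩ := key
  exact ⟨e1 ≪≫ e3 ≪≫ Ega2.Tens.mapTIso e2 (Iso.refl _)⟩

end K107.FinShriek
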