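import Groth.Agent.S14810
import Groth.Agent.S14818
import Groth.Agent.Pic13.H943.TauGlue
import Groth.Agent.PicF.K248.Descend
import Groth.Agent.ASBun.K791.Tens

/-!
# The order of the dualizing sheaf from a divisor
-/

set_option autoImplicit false
universe u
open CategoryTheory CategoryTheory.Limits AlgebraicGeometry

namespace K107.OrderK

open Groth.Agent Groth.Agent.Grpsch.PicGrp Groth.Agent.Pic13.H943.TauGlue Groth.Agent.Fdesc.LocGen

theorem isInvertible_of_iso {X : Scheme.{u}} {L M : X.Modules} (e : L ≅ M) (hL : PicF.IsInvertible L) :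
    PicF.IsInvertible M := by
  intro x
  obtain ⟨U, hx, ⟨i⟩⟩ := hL x
  exact ⟨U, hx, ⟨((Scheme.Modules.restrictFunctor U.ι).mapIso e).symm ≪≫ i⟩⟩

theorem isInvertible_of_isInverseOf {X : Scheme.{u}} {I M : X.Modules} (hI : PicF.IsInvertible I)
    (h : ClSub.IsInverseOf M I) : PicF.IsInvertible M := by
  obtain ⟨e⟩ := h
  obtain ⟨I', hI', ⟨e'⟩⟩ := exists_inverse hI
  -- `M ≅ M ⊗ (I ⊗ I') ≅ (M ⊗ I) ⊗ I' ≅ I'`
  have e1 : M ≅ I' := (Ega2.Tens.runit _).symm ≪≫ Ega2.Tens.mapTIso (Iso.refl _) e'.symm ≪≫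
    (Ega2.Tens.assoc _ _ _).symm ≪≫ Ega2.Tens.mapTIso e (Iso.refl _) ≪≫ Ega2.Tens.lunit _
  exact isInvertible_of_iso e1.symm hI'

/-- Roots of numerically trivial classes. -/
theorem mem_numCl_of_pow {k : Type u} [Field k] {X : Scheme.{u}} [X.Over (Spec (CommRingCat.of k))]
    [IsProper (X ↘ Spec (CommRingCat.of k))] {a : Pic X} {m : ℕ} (hm : 0 < m) (h : a ^ m ∈ numCl k X) :
    a ∈ numCl k X := by
  intro Y i _ hY hdim
  letI : Y.Over (Spec (CommRingCat.of k)) := ⟨i ≫ (X ↘ Spec (CommRingCat.of k))⟩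
  haveI : IsProper (Y ↘ Spec (CommRingCat.of k)) := inferInstanceAs (IsProper (i ≫ (X ↘ Spec (CommRingCat.of k))))
  have h1 := h Y i hY hdim
  rw [map_pow, Etcore.DegZero.dg_pow k Y hdim] at h1
  rcases mul_eq_zero.1 h1 with h2 | h2
  · exact absurd (by exact_mod_cast h2) hm.ne'
  · exact h2

/-- Pull back along `α` with `α_* O = O` is injective. -/
theorem eq_one_of_pull {D Z : Scheme.{u}} (α : D ⟶ Z) (hα : ∀ V : Z.Opens, IsIso (α.app V)) {c : Pic Z}
    (h : pull α c = 1) : c = 1 := by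
  induction c using ind with | _ M hM => ?_
  rw [pull_mk, mk_eq_one_iff] at h
  rw [mk_eq_one_iff]
  obtain ⟨e⟩ := h
  obtain ⟨e1⟩ := K248.Descend.push_iso_of_pull α hα hM e
  obtain ⟨e2⟩ := K248.Descend.push_iso_of_pull α hα isInvertible_structureModule
    (@asIso _ _ _ _ _ (isIso_pullOne α)).symm
  exact ⟨e1 ≪≫ e2.symm⟩

theorem main (k : Type u) [Field k]
    (X : Scheme.{u}) [X.Over (Spec (CommRingCat.of k))] [IsProper (X ↘ Spec (CommRingCat.of k))] [IsIntegral X]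
    (D : Scheme.{u}) [D.Over (Spec (CommRingCat.of k))] (i : D ⟶ X) [IsClosedImmersion i] [IsIntegral D]
    (hD : D ↘ Spec (CommRingCat.of k) = i ≫ (X ↘ Spec (CommRingCat.of k)))
    (Y : Scheme.{u}) [Y.Over (Spec (CommRingCat.of k))] [IsProper (Y ↘ Spec (CommRingCat.of k))] (f : X ⟶ Y)
    [Surjective f] {ωX : X.Modules} (hωXinv : PicF.IsInvertible ωX) (hnum : Pic13.IsNumEquivZero k X ωX)
    {OD : X.Modules} (hO : PicF.IsInvertible OD) {ωD : D.Modules}
    (e : ωD ≅ (Scheme.Modules.pullback i).obj (CohB1.tensorMod OD ωX))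
    (m₁ m₂ m₃ : ℕ) (hm₁ : 0 < m₁) (hm₂ : 0 < m₂) (hm₃ : 0 < m₃)
    {N : Y.Modules} (hN : PicF.IsInvertible N)
    (hii : Nonempty (CohB1.tensorPow ωX m₃ ≅ (Scheme.Modules.pullback f).obj N))
    (Z : Scheme.{u}) (α : D ⟶ Z) (β : Z ⟶ Y) (hαβ : α ≫ β = i ≫ f) (hα : ∀ V : Z.Opens, IsIso (α.app V))
    (r : ℕ) (hβ : Mor2.IsFinLocFreeOfDeg r β)
    (hi1 : Nonempty (CohB1.tensorPow ωD m₁ ≅ Coh.structureModule D))
    (s : Coh.structureModule D ⟶ CohB1.tensorPow ((Scheme.Modules.pullback i).obj OD) m₂) (hs : s ≠ 0) :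
    Nonempty (CohB1.tensorPow ωX (r * Nat.lcm m₁ (Nat.lcm m₂ m₃)) ≅ Coh.structureModule X) := by
  have hpD : IsProper (D ↘ Spec (CommRingCat.of k)) := by rw [hD]; infer_instance
  have hOD := isInvertible_pullback i hO
  have hωD : PicF.IsInvertible ωD :=
    isInvertible_of_iso e.symm (isInvertible_pullback i (isInvertible_tensorMod hO hωXinv))
  have h1 : mk ωD hωD = pull i (mk OD hO) * pull i (mk ωX hωXinv) := by
    rw [← map_mul, mk_mul_mk, pull_mk]
    exact mk_congr e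
  have h2 : mk ωD hωD ^ m₁ = 1 := by
    rw [← mk_tensorPow, mk_eq_one_iff]
    exact hi1
  have h3 : mk ωX hωXinv ^ m₃ = pull f (mk N hN) := by
    rw [← mk_tensorPow, pull_mk, mk_eq_iff]
    exact hii
  -- numerical triviality
  have h4 : pull i (mk ωX hωXinv) ∈ numCl k D := by
    intro C j _ hC hdim
    have h := (isNum_mk_iff hωXinv).2 hnum C (j ≫ i) hC hdim
    rw [pull_comp] at h
    rw [hD, ← Category.assoc]
    exact h
  have h5 : pull i (mk OD hO) ∈ numCl k D := by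
    apply mem_numCl_of_pow hm₁
    have h6 : pull i (mk OD hO) ^ m₁ = (pull i (mk ωX hωXinv) ^ m₁)⁻¹ := by
      rw [eq_inv_iff_mul_eq_one, ← mul_pow, ← h1, h2]
    rw [h6]
    exact inv_mem (pow_mem h4 _)
  have h7 : pull i (mk OD hO) ^ m₂ = 1 := by
    rw [pull_mk, ← mk_tensorPow hOD, mk_eq_one_iff]
    refine S14810.result k D (isField_of_universallyClosed k (D ↘ Spec (CommRingCat.of k))) _
      (isInvertible_tensorPow hOD m₂) ?_ s hs
    rw [← mem_numCl_iff (isInvertible_tensorPow hOD m₂), mk_tensorPow hOD]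
    exact pow_mem h5 _
  obtain ⟨q, hq⟩ : m₃ ∣ Nat.lcm m₁ (Nat.lcm m₂ m₃) := (Nat.dvd_lcm_right m₂ m₃).trans (Nat.dvd_lcm_right _ _)
  obtain ⟨q₁, hq₁⟩ : m₁ ∣ Nat.lcm m₁ (Nat.lcm m₂ m₃) := Nat.dvd_lcm_left _ _
  obtain ⟨q₂, hq₂⟩ : m₂ ∣ Nat.lcm m₁ (Nat.lcm m₂ m₃) := (Nat.dvd_lcm_left m₂ m₃).trans (Nat.dvd_lcm_right _ _)
  set m := Nat.lcm m₁ (Nat.lcm m₂ m₃) with hm
  have h8 : pull i (mk ωX hωXinv) ^ m = 1 := by
    have h9 : (mk ωD hωD) ^ m = 1 := by rw [hq₁, pow_mul, h2, one_pow]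
    have h10 : pull i (mk OD hO) ^ m = 1 := by rw [hq₂, pow_mul, h7, one_pow]
    rw [h1, mul_pow, h10, one_mul] at h9
    exact h9
  have h11 : pull β (mk N hN ^ q) = 1 := by
    apply eq_one_of_pull α hα
    rw [← pull_comp, hαβ, pull_comp, map_pow, map_pow, ← h3, map_pow, ← pow_mul, ← hq]
    exact h8
  have hY : ConnectedSpace Y := (Surjective.surj (f := f)).connectedSpace f.continuous
  have hLN : IsLocallyNoetherian Y := LocallyOfFiniteType.isLocallyNoetherian (Y ↘ Spec (CommRingCat.of k))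
  have h12 : (mk N hN ^ q) ^ r = 1 := by
    rw [← mk_tensorPow hN, ← mk_tensorPow (isInvertible_tensorPow hN q), mk_eq_one_iff]
    refine S14818.result Y Z β r hβ _ (isInvertible_tensorPow hN q) ?_
    have h13 := h11
    rw [← mk_tensorPow hN, pull_mk, mk_eq_one_iff] at h13
    exact h13
  rw [← mk_eq_one_iff (isInvertible_tensorPow hωXinv _), mk_tensorPow hωXinv, mul_comm, hq, mul_assoc, pow_mul,
    h3, ← map_pow, pow_mul, h12, map_one]

end K107.OrderK
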